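import Cfsg.Agent.LV.Blk.Main
import Cfsg.Agent.KZ.Lie.McTor
import Cfsg.Agent.H684.CoverCount
import Cfsg.Agent.H633.Principal
import Cfsg.Agent.H700.PrinExt
import Cfsg.Agent.H611.CoverPrincipal
import Cfsg.Agent.S0887
import Cfsg.Agent.S4735

/-!
# LV, the block layer: the simple group and the Sylow subgroups (helper68)

* `exists_over`, `exists_under` : members of the principal blocks of `S` and of `G ^ F`; `hz_down`;
* `abS_up` : abelian Sylow subgroups go up; `not_abS` : an `l`-element of the Weyl group which moves the `l`-part;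
* `exists_card`, `exists_sylT`, `sylT_of_abS`.
-/

set_option autoImplicit false
set_option linter.unusedSectionVars false

namespace Cfsg.Agent.LV.Blk

open Cfsg Cfsg.Agent.DL Cfsg.Agent.DL.PP Cfsg.Agent.DL.Uni Cfsg.Agent.DL.Asm Cfsg.Agent.Nodes.Reps Matrix
  Cfsg.Agent.Characters.Core Cfsg.Agent.Blocks.Local Cfsg.Agent.Blocks Cfsg.Agent.KZ Cfsg.Agent.KZ.Lie

theorem pull_mem {A B : Type} [Group A] [Group B] [Finite A] {M : Ideal AlgInt} [M.IsPrime] (f : A →* B)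
    (hf : Function.Surjective f) {χ : IrrCharacter B} (h : χ ∈ principalBlock M B) :
    Res.pull f hf χ ∈ principalBlock M A :=
  H633.Principal.inflate_mem f.ker (H700.PrinExt.mapIrr_mem (QuotientGroup.quotientKerEquivOfSurjective f hf) h)

theorem exists_push {A B : Type} [Group A] [Group B] [Finite A] {M : Ideal AlgInt} {l : ℕ} (hM : IsPModular l M)
    (f : A →* B) (hf : Function.Surjective f) (hk : ¬ l ∣ Nat.card f.ker) {θ : IrrCharacter A}
    (h : θ ∈ principalBlock M A) : ∃ χ ∈ principalBlock M B, Res.pull f hf χ = θ := by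
  have : Fact l.Prime := ⟨hM.1⟩
  obtain ⟨ψ, hψ, rfl⟩ := (S4735.bijOn_infl hM f.ker hk).surjOn h
  refine ⟨_, H700.PrinExt.mapIrr_mem (QuotientGroup.quotientKerEquivOfSurjective f hf).symm hψ,
    Subtype.ext (funext fun a => ?_)⟩
  rw [Res.pull_apply, H700.PrinExt.mapIrr_apply, S4735.infl_apply]
  exact congrArg _ ((MulEquiv.symm_apply_eq _).2 rfl)

theorem exists_isL {A B : Type*} [Group A] [Group B] [Finite A] {l : ℕ} (hl : l.Prime) (f : A →* B) {a : A}
    (h : IsL l (f a)) : ∃ a', IsL l a' ∧ f a' = f a := by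
  obtain ⟨i, hi⟩ := h
  obtain ⟨u, hu⟩ := exists_pow_eq_self_of_coprime (x := f a) (n := orderOf a / l ^ (orderOf a).factorization l)
    (Nat.Coprime.coprime_dvd_right (orderOf_dvd_of_pow_eq_one hi)
      ((hl.coprime_iff_not_dvd.2 (Nat.not_dvd_ordCompl hl (orderOf_pos a).ne')).symm.pow_right i))
  refine ⟨(a ^ (orderOf a / l ^ (orderOf a).factorization l)) ^ u, ⟨(orderOf a).factorization l, ?_⟩,
    by rw [map_pow, map_pow, hu]⟩
  rw [← pow_mul, mul_comm, pow_mul, ← pow_mul a, mul_comm, Nat.ordProj_mul_ordCompl_eq_self, pow_orderOf_eq_one, one_pow]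

variable {p : ℕ} [Fact p.Prime] {k : Type} [Field k] [CharP k p] {Y : Type} [Group Y] {N : Type} [Fintype N]
  [DecidableEq N] {ρ : Y →* GL N k} {F : MulAut Y} {G : Subgroup Y} [IsAlgClosed k] {D : Datum p ρ F G}
  {M : Ideal AlgInt} {l : ℕ} {w v : D.W} [Fintype ↥(GF F G)] {Adm : Matrix D.R D.R ℤ → Prop} {S : Type} [Group S]

section

variable (s : Sit D Adm S)

theorem ov_deg {χ : IrrCharacter ↥(GF F G)} {ψ : IrrCharacter S} (h : s.Ov χ ψ) :
    charDegree (ψ : S → ℂ) ∣ charDegree (χ : GF F G → ℂ) ∧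
      charDegree (χ : GF F G → ℂ) / charDegree (ψ : S → ℂ) ∣ s.H1.index := by
  have := Fintype.ofFinite ↥s.H1
  have := s.normal
  rw [← Res.pull_deg s.π1 s.π1_surj ψ]
  exact S0887.result s.H1 _ χ.2 _ (Res.pull s.π1 s.π1_surj ψ).2 (Res.over_iff.1 (s.ov_iff.1 h)) _ _
    (Basic.irr_one_eq_charDegree χ.2) (Basic.irr_one_eq_charDegree (Res.pull s.π1 s.π1_surj ψ).2)

/-- a member of the principal block of `S` lies under a member of the principal block of `G ^ F` -/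
theorem exists_over (hM : IsPModular l M) {ψ : IrrCharacter S} (h : ψ ∈ principalBlock M S) :
    ∃ χ ∈ principalBlock M ↥(GF F G), s.Ov χ ψ := by
  have : Fact l.Prime := ⟨hM.1⟩
  have := isPrime_of_isPModular hM
  have := Fintype.ofFinite ↥s.H1
  have := s.normal
  obtain ⟨χ, hχ, h1⟩ := H684.CoverCount.exists_over hM s.H1 _ (pull_mem s.π1 s.π1_surj h)
  exact ⟨χ, hχ, s.ov_iff.2 (Res.over_iff.2 h1)⟩

theorem card_ker : Nat.card s.π1.ker = Nat.card s.π.ker :=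
  Nat.card_congr ⟨fun z => ⟨⟨z.1.1.1, z.1.2⟩, z.2⟩, fun z => ⟨⟨⟨z.1.1, s.le z.1.2⟩, z.1.2⟩, z.2⟩, fun _ => rfl, fun _ => rfl⟩

/-- a member of the principal block of `G ^ F` lies over a member of the principal block of `S` -/
theorem exists_under (hM : IsPModular l M) (hk : ¬ l ∣ Nat.card s.π.ker) {χ : IrrCharacter ↥(GF F G)}
    (h : χ ∈ principalBlock M ↥(GF F G)) : ∃ ψ ∈ principalBlock M S, s.Ov χ ψ := by
  have : Fact l.Prime := ⟨hM.1⟩
  have := Fintype.ofFinite ↥s.H1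
  have := s.normal
  obtain ⟨θ, hθ⟩ := Res.exists_under s.H1 χ
  obtain ⟨ψ, hψ, rfl⟩ := exists_push hM s.π1 s.π1_surj (card_ker s ▸ hk)
    (H611.CoverPrincipal.mem_principalBlock_of_over l hM s.H1 χ θ (Res.over_iff.1 hθ) h)
  exact ⟨ψ, hψ, s.ov_iff.2 hθ⟩

include s in
/-- **Height zero goes down to the simple group.** -/
theorem hz_down (hM : IsPModular l M) (h : HZ0 l M ↥(GF F G)) : HZ0 l M S := fun ψ hψ hd => by
  obtain ⟨χ, hχ, h1⟩ := exists_over s hM hψ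
  exact h χ hχ (hd.trans (ov_deg s h1).1)

/-- abelian Sylow subgroups go up -/
theorem abS_up (hl : l.Prime) (hi : ¬ l ∣ s.H1.index) (hk : ¬ l ∣ Nat.card s.π.ker) (h : AbS l S) :
    AbS l ↥(GF F G) := fun P => ⟨⟨fun a b => by
  have : Fact l.Prime := ⟨hl⟩
  have := s.normal
  have h1 : ∀ x ∈ (P : Subgroup ↥(GF F G)), x ∈ s.H1 := fun x hx => by
    obtain ⟨j, hj⟩ := P.2 ⟨x, hx⟩
    rw [← QuotientGroup.eq_one_iff]
    refine (pow_eq_one_iff_of_coprime ((hl.coprime_iff_not_dvd.2 hi).pow_left j)).1 ⟨?_, pow_card_eq_one'⟩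
    rw [← QuotientGroup.mk_pow, show x ^ l ^ j = 1 from congrArg Subtype.val hj, QuotientGroup.mk_one]
  obtain ⟨Q, hQ⟩ := ((P.2.comap_of_injective s.H1.subtype Subtype.val_injective).map s.π1).exists_le_sylow
  have h2 := congrArg Subtype.val ((h Q).is_comm.comm ⟨s.π1 ⟨a, h1 a a.2⟩, hQ ⟨_, a.2, rfl⟩⟩
    ⟨s.π1 ⟨b, h1 b b.2⟩, hQ ⟨_, b.2, rfl⟩⟩)
  let z : s.π1.ker := ⟨⟨a, h1 a a.2⟩ * ⟨b, h1 b b.2⟩ * (⟨b, h1 b b.2⟩ * ⟨a, h1 a a.2⟩)⁻¹, by
    rw [MonoidHom.mem_ker, map_mul, map_inv, map_mul, map_mul, mul_inv_eq_one]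
    exact h2⟩
  obtain ⟨j, hj⟩ := P.2 (a * b * (b * a)⁻¹)
  have h3 : z = 1 := (pow_eq_one_iff_of_coprime ((hl.coprime_iff_not_dvd.2 (card_ker s ▸ hk)).pow_left j)).1
    ⟨Subtype.ext (Subtype.ext (show ((a * b * (b * a)⁻¹) ^ l ^ j).1 = 1 from congrArg Subtype.val hj)),
      pow_card_eq_one'⟩
  exact mul_inv_eq_one.1 (Subtype.ext (congrArg (fun x => x.1.1) h3))⟩⟩

end

theorem exists_primL (hl : l.Prime) (hp : l ≠ p) (j : ℕ) : ∃ ζ : kˣ, IsPrimitiveRoot ζ (l ^ j) := by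
  have : NeZero ((l ^ j : ℕ) : k) := ⟨fun h => hp ((Nat.prime_dvd_prime_iff_eq Fact.out hl).1
    ((Fact.out : p.Prime).dvd_of_dvd_pow ((CharP.cast_eq_zero_iff k p _).1 h))).symm⟩
  obtain ⟨ζ, h⟩ := HasEnoughRootsOfUnity.exists_primitiveRoot k (l ^ j)
  exact ⟨(h.isUnit (pow_pos hl.pos j).ne').unit, h.isUnit_unit (pow_pos hl.pos j).ne'⟩

variable (D) in
/-- `v` moves the `l`-part of the torus of type `w` -/
def Moves (l : ℕ) (w v : D.W) : Prop :=
  ∃ (j : ℕ) (x : D.R → ℤ), (∀ i, (l : ℤ) ^ j ∣ ((D.Wm w * D.Mx - 1) *ᵥ x) i) ∧ ¬ ∀ i, (l : ℤ) ^ j ∣ ((D.Wm v - 1) *ᵥ x) i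

/-- an `l`-element of the relative Weyl group which moves the `l`-part of the torus -/
theorem not_abS (hl : l.Prime) (hp : l ≠ p) (hv : v ∈ CW D w) (h1 : IsL l v) (h2 : Moves D l w v) :
    ¬ AbS l ↥(GF F G) := fun hA => by
  have : Fact l.Prime := ⟨hl⟩
  have hy := yw_mem D w
  have hw := yw_rp D w
  obtain ⟨j, x, hx, hn⟩ := h2
  obtain ⟨ζ, hζ⟩ := exists_primL (k := k) hl hp j
  rw [← range_wN hy hw] at hv
  obtain ⟨n₀, rfl⟩ := hv
  obtain ⟨n, ⟨i, hi⟩, e⟩ := exists_isL hl (wN hy) h1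
  rw [← e] at hn
  have h3 : yw D w * D.τ (coch x ζ) * (yw D w)⁻¹ ∈ GF F G :=
    ⟨(D.conj hy ⟨w, hw⟩).T_le_G (τ_mem_cj _ _), by
      show F _ = _ * _ * _
      rw [F_cj_τ hw, (mon_coch_iff hζ _ _).2 (by exact_mod_cast hx)]⟩
  let A : Subgroup (GF F G) :=
    { carrier := {t | (t : Y) ∈ cj (yw D w) D.T ∧ IsL l t}
      one_mem' := ⟨one_mem _, isL_one l⟩
      mul_mem' := by
        rintro a b ⟨ha, i, hi⟩ ⟨hb, j, hj⟩
        have hc : Commute a b := Subtype.ext ((sys' D).comm _ (Tw_mem w) a ⟨ha, a.2⟩ b ⟨hb, b.2⟩)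
        refine ⟨mul_mem ha hb, i + j, ?_⟩
        rw [hc.mul_pow, pow_add, pow_mul, hi, one_pow, mul_comm, pow_mul, hj, one_pow, one_mul]
      inv_mem' := fun ha => ⟨inv_mem ha.1, ha.2.inv⟩ }
  have hA' : IsPGroup l A := fun x => x.2.2.imp fun _ h => Subtype.ext h
  have hn' : IsPGroup l (Subgroup.zpowers (n : GF F G)) := by
    rintro ⟨_, m, rfl⟩
    refine ⟨i, Subtype.ext ?_⟩
    show ((n : GF F G) ^ m) ^ l ^ i = 1
    rw [← _root_.zpow_natCast, ← _root_.zpow_mul, mul_comm, _root_.zpow_mul, _root_.zpow_natCast,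
      show (n : GF F G) ^ l ^ i = 1 from congrArg Subtype.val hi, _root_.one_zpow]
  have h4 : Subgroup.zpowers (n : GF F G) ≤ Subgroup.normalizer (A : Set (GF F G)) := mem_normalizer_of (by
    rintro u hu t ⟨ht, j, hj⟩
    exact ⟨mem_Nz.1 ((Subgroup.zpowers_le.2 n.2) hu) ▸ conj_mem_cj.2 ht, j,
      by rw [conj_pow, hj, mul_one, mul_inv_cancel]⟩)
  obtain ⟨P, hP⟩ := (hn'.to_sup_of_normal_right' hA' h4).exists_le_sylow
  have h5 : (⟨_, h3⟩ : GF F G) ∈ A := ⟨τ_mem_cj _ _, j, Subtype.ext (by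
    show (yw D w * D.τ (coch x ζ) * (yw D w)⁻¹) ^ l ^ j = 1
    rw [conj_pow, ← map_pow, ← map_pow, hζ.pow_eq_one, map_one, map_one, mul_one, mul_inv_cancel])⟩
  have h6 : ((n : GF F G) : Y) * (yw D w * D.τ (coch x ζ) * (yw D w)⁻¹) =
      yw D w * D.τ (coch x ζ) * (yw D w)⁻¹ * ((n : GF F G) : Y) :=
    congrArg (fun z => z.1.1) ((hA P).is_comm.comm ⟨_, hP (Subgroup.mem_sup_left (Subgroup.mem_zpowers _))⟩
      ⟨_, hP (Subgroup.mem_sup_right h5)⟩)
  have h7 := D.conj_τ (rp_wN hy n) (coch x ζ)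
  rw [show (yw D w)⁻¹ * (n : GF F G) * yw D w * D.τ (coch x ζ) * ((yw D w)⁻¹ * (n : GF F G) * yw D w)⁻¹ =
    (yw D w)⁻¹ * ((n : GF F G) * (yw D w * D.τ (coch x ζ) * (yw D w)⁻¹)) * (((n : GF F G) : Y)⁻¹ * yw D w) by group,
    h6] at h7
  exact hn (by exact_mod_cast (mon_coch_iff hζ _ _).1 (D.τ_inj (h7.symm.trans (by group))))

variable (D) in
/-- the normaliser of the torus of type `w` contains a Sylow `l`-subgroup -/
def CardL (l : ℕ) (w : D.W) : Prop :=
  (Nat.card ↥(GF F G)).factorization l = (ordT D w * Nat.card (CW D w)).factorization l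

theorem fact_N_le (l : ℕ) (w : D.W) :
    (ordT D w * Nat.card (CW D w)).factorization l ≤ (Nat.card ↥(GF F G)).factorization l := by
  rw [← card_Nz (yw_mem D w) (yw_rp D w)]
  exact (Nat.factorization_le_iff_dvd Nat.card_pos.ne' Nat.card_pos.ne').2 (Subgroup.card_subgroup_dvd_card _) l

variable (D) in
/-- some torus has a normaliser of index prime to `l` -/
theorem exists_card (hl : l.Prime) (hp : l ≠ p) : ∃ w, CardL D l w := by
  have : Fact l.Prime := ⟨hl⟩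
  obtain ⟨P⟩ : Nonempty (Sylow l (GF F G)) := inferInstance
  obtain ⟨St, hSt⟩ := DL.St.stD D
  let A : MulAction (P : Subgroup (GF F G)) (sys' D).tori :=
    { smul := fun u T => ⟨cj ((u : GF F G) : Y) T,
        (sys' D).mem_tori.2 ((sys' D).conjA _ u.1.2 _ ((sys' D).mem_tori.1 T.2))⟩
      one_smul := fun T => Subtype.ext (cj_one _)
      mul_smul := fun u v T => Subtype.ext (cj_mul _ _ _) }
  obtain ⟨T, hT⟩ := P.2.nonempty_fixed_point_of_prime_not_dvd_card (sys' D).tori (by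
    rw [Nat.card_eq_finsetCard, hSt.card_tori (sys' D), pc]
    exact fun h => hp ((Nat.prime_dvd_prime_iff_eq hl Fact.out).1 (hl.dvd_of_dvd_pow (hl.dvd_of_dvd_pow h))))
  obtain ⟨y, hy, w, hw, e⟩ := exists_y ((sys' D).mem_tori.1 T.2)
  refine ⟨w, le_antisymm ?_ (fact_N_le l w)⟩
  have h1 := Subgroup.card_dvd_of_le (show (P : Subgroup (GF F G)) ≤ Nz F G (cj y D.T) from fun u hu =>
    mem_Nz.2 (e ▸ congrArg Subtype.val (hT ⟨u, hu⟩)))
  rwa [P.card_eq_multiplicity, hl.pow_dvd_iff_le_factorization Nat.card_pos.ne', card_Nz hy hw] at h1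

theorem cardL_of_le (hl : l.Prime) (hp : l ≠ p) (h : ∀ w', (ordT D w' * Nat.card (CW D w')).factorization l ≤
    (ordT D w * Nat.card (CW D w)).factorization l) : CardL D l w := by
  obtain ⟨w', hw⟩ := exists_card D hl hp
  exact le_antisymm (hw.le.trans (h w')) (fact_N_le l w)

theorem CardL.sylT (h : CardL D l w) (hd : ¬ l ∣ Nat.card (CW D w)) : SylT D l w := by
  rw [SylT, h, Nat.factorization_mul (ordT_ne w) Nat.card_pos.ne', Finsupp.add_apply,
    Nat.factorization_eq_zero_of_not_dvd hd, add_zero]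

theorem SylT.not_dvd (hl : l.Prime) (h : SylT D l w) : ¬ l ∣ Nat.card (CW D w) := fun hd => by
  have h1 := fact_N_le (D := D) l w
  rw [h, Nat.factorization_mul (ordT_ne w) Nat.card_pos.ne', Finsupp.add_apply] at h1
  have h2 := (hl.dvd_iff_one_le_factorization Nat.card_pos.ne').1 hd
  omega

theorem SylT.cardL (hl : l.Prime) (h : SylT D l w) : CardL D l w := by
  rw [CardL, h, Nat.factorization_mul (ordT_ne w) Nat.card_pos.ne', Finsupp.add_apply,
    Nat.factorization_eq_zero_of_not_dvd (h.not_dvd hl), add_zero]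

variable (D) in
/-- primes which do not divide the order of the Weyl group -/
theorem exists_sylT (hl : l.Prime) (hp : l ≠ p) (hW : ¬ l ∣ Nat.card D.W) : ∃ w, SylT D l w := by
  obtain ⟨w, hw⟩ := exists_card D hl hp
  exact ⟨w, hw.sylT fun h => hW (h.trans (Subgroup.card_subgroup_dvd_card _))⟩

theorem sylT_of_le (h : ∀ w', (ordT D w').factorization l ≤ (ordT D w).factorization l) (h' : ∃ w', SylT D l w') :
    SylT D l w := by
  obtain ⟨w', hw⟩ := h'
  exact le_antisymm (hw.le.trans (h w')) (fact_T_le l w)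

/-- abelian Sylow subgroups lie in the torus -/
theorem sylT_of_abS (hl : l.Prime) (hp : l ≠ p) (hA : AbS l ↥(GF F G)) (h : CardL D l w)
    (hm : ∀ v ∈ CW D w, orderOf v = l → Moves D l w v) : SylT D l w := h.sylT fun hd => by
  have : Fact l.Prime := ⟨hl⟩
  obtain ⟨v, hv⟩ := exists_prime_orderOf_dvd_card' l hd
  rw [← Subgroup.orderOf_coe] at hv
  exact not_abS hl hp v.2 ⟨1, by rw [pow_one, ← hv, pow_orderOf_eq_one]⟩ (hm v v.2 hv) hA

end Cfsg.Agent.LV.Blk
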