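import Cfsg.Agent.Blocks.Central
import Cfsg.Agent.Blocks.Basic
import Cfsg.Agent.Blocks.Local
import Cfsg.Agent.Characters.Core

/-!
# LV, the block layer: central characters on class functions (helper68)

* `reg l` : the indicator function of the `l`-regular elements;
* `om χ φ` : the central character of `χ` on the central element given by the class function `φ`;
* `om_int`, `om_congr` : integrality, and invariance on blocks;
* `fact_eq_of_unit`, `fact_le_of_ring` : exponents of `l` in integers.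
-/

set_option autoImplicit false

namespace Cfsg.Agent.LV.Blk

open Cfsg Cfsg.Agent.Blocks.Local Cfsg.Agent.Blocks Cfsg.Agent.Characters.Core
open scoped ComplexConjugate

universe u

variable {G : Type u} [Group G] {M : Ideal AlgInt} {l : ℕ}

open Classical in
/-- the indicator function of the `l`-regular elements -/
noncomputable def reg (l : ℕ) (g : G) : ℂ := if l ∣ orderOf g then 0 else 1

theorem reg_of {g : G} (h : ¬ l ∣ orderOf g) : reg l g = 1 := if_neg h

theorem reg_of_not {g : G} (h : l ∣ orderOf g) : reg l g = 0 := if_pos h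

theorem reg_congr {H : Type*} [Group H] {g : G} {h : H} (e : orderOf g = orderOf h) : reg l g = reg l h := by
  rw [reg, reg, e]

theorem reg_coe (H : Subgroup G) (h : H) : reg l (h : G) = reg l h := reg_congr (Subgroup.orderOf_coe h)

theorem reg_cls (l : ℕ) : IsClassFunction G (reg l) := fun g h =>
  reg_congr (by rw [← MulAut.conj_apply, MulEquiv.orderOf_eq])

theorem reg_int (l : ℕ) (g : G) : IsIntegral ℤ (reg l g) := by
  rw [reg]
  split_ifs
  exacts [isIntegral_zero, isIntegral_one]

theorem conj_reg (l : ℕ) (g : G) : conj (reg l g) = reg l g := by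
  rw [reg]
  split_ifs
  exacts [map_zero _, map_one _]

theorem reg_mul_self (l : ℕ) (g : G) : reg l g * reg l g = reg l g := by
  rw [reg]
  split_ifs
  exacts [mul_zero _, mul_one _]

theorem gen_int [Finite G] {χ : G → ℂ} (hχ : IsGeneralizedCharacter G χ) (g : G) : IsIntegral ℤ (χ g) := by
  have := @Fintype.ofFinite _ (finite_irr (G := G))
  obtain ⟨m, rfl⟩ := isGeneralizedCharacter_iff.1 hχ
  rw [Finset.sum_apply]
  refine IsIntegral.sum _ fun ψ _ => ?_
  rw [Pi.smul_apply, zsmul_eq_mul]
  exact (isIntegral_algebraMap (R := ℤ) (x := m ψ)).mul (Central.isIntegral_irr ψ.2 g)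

theorem gen_cls {χ : G → ℂ} (hχ : IsGeneralizedCharacter G χ) : IsClassFunction G χ := by
  obtain ⟨a, b, ha, hb, rfl⟩ := hχ
  intro g h
  rw [Pi.sub_apply, Pi.sub_apply, isCharacter_isClassFunction ha, isCharacter_isClassFunction hb]

theorem gen_sum [Finite G] {ι : Type*} [Fintype ι] {φ : ι → G → ℂ} (h : ∀ i, IsGeneralizedCharacter G (φ i)) :
    IsGeneralizedCharacter G (∑ i, φ i) := by
  have := @Fintype.ofFinite _ (finite_irr (G := G))
  choose m hm using fun i => isGeneralizedCharacter_iff.1 (h i)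
  exact isGeneralizedCharacter_iff.2 ⟨fun χ => ∑ i, m i χ, by
    simp only [hm, Finset.sum_smul]
    exact Finset.sum_comm⟩

theorem inner_int [Fintype G] {f g : G → ℂ} (hf : IsGeneralizedCharacter G f) (hg : IsGeneralizedCharacter G g) :
    ∃ k : ℤ, classInner f g = k := by
  obtain ⟨a, b, ha, hb, rfl⟩ := hf
  obtain ⟨c, d, hc, hd, rfl⟩ := hg
  obtain ⟨n1, h1⟩ := classInner_isNat ha hc
  obtain ⟨n2, h2⟩ := classInner_isNat ha hd
  obtain ⟨n3, h3⟩ := classInner_isNat hb hc
  obtain ⟨n4, h4⟩ := classInner_isNat hb hd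
  refine ⟨n1 - n2 - (n3 - n4), ?_⟩
  rw [classInner_sub_left, classInner_sub_right, classInner_sub_right, h1, h2, h3, h4]
  push_cast
  rfl

theorem int_conj {z : ℂ} (h : IsIntegral ℤ z) : IsIntegral ℤ (conj z) :=
  h.map (starRingEnd ℂ).toIntAlgHom

variable [Fintype G]

/-- the central character of `χ` on the central element given by `φ` -/
noncomputable def om (χ φ : G → ℂ) : ℂ := Nat.card G * classInner χ φ / χ 1

theorem om_eq (χ φ : G → ℂ) : om χ φ = (∑ g, χ g * conj (φ g)) / χ 1 := by
  rw [om, classInner_def, mul_inv_cancel_left₀ card_ne_zero_complex]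

theorem om_mul {χ : G → ℂ} (hχ : χ 1 ≠ 0) (φ : G → ℂ) : χ 1 * om χ φ = Nat.card G * classInner χ φ := by
  rw [om, mul_div_cancel₀ _ hχ]

theorem om_eq_sum [Fintype (ConjClasses G)] {χ φ : G → ℂ} (hχ : IsClassFunction G χ) (hφ : IsClassFunction G φ) :
    om χ φ = ∑ c : ConjClasses G, centralChar χ (Quotient.out c : G) * conj (φ (Quotient.out c : G)) := by
  classical
  rw [om_eq, Finset.sum_div, ← Finset.sum_fiberwise (g := ConjClasses.mk)]
  refine Finset.sum_congr rfl fun c _ => ?_
  have h1 : ∀ z, ConjClasses.mk z = c ↔ IsConj (Quotient.out c : G) z := fun z => by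
    rw [← ConjClasses.mk_eq_mk_iff_isConj, show ConjClasses.mk (Quotient.out c : G) = c from Quotient.out_eq c, eq_comm]
  rw [Finset.sum_congr rfl (g := fun _ => χ (Quotient.out c : G) * conj (φ (Quotient.out c : G)) / χ 1) fun z hz => ?_,
    Finset.sum_const, Basic.centralChar_def, Basic.index_centralizer_eq_ncard, Set.ncard_eq_toFinset_card', nsmul_eq_mul,
    show (Finset.univ.filter fun z => ConjClasses.mk z = c) = {h : G | IsConj (Quotient.out c : G) h}.toFinset by
      ext z
      simp only [Finset.mem_filter, Finset.mem_univ, true_and, Set.mem_toFinset, Set.mem_ofPred_eq, h1]]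
  · ring
  · obtain ⟨x, rfl⟩ := isConj_iff.1 ((h1 z).1 (Finset.mem_filter.1 hz).2)
    rw [hχ, hφ]

/-- integrality -/
theorem om_int {χ φ : G → ℂ} (hχ : IsIrrCharacter G χ) (hφ : IsClassFunction G φ) (hi : ∀ g, IsIntegral ℤ (φ g)) :
    IsIntegral ℤ (om χ φ) := by
  classical
  have := Fintype.ofFinite (ConjClasses G)
  rw [om_eq_sum (Basic.irr_isClassFunction hχ) hφ]
  exact IsIntegral.sum _ fun c _ => (Central.isIntegral_centralChar hχ _).mul (int_conj (hi _))

/-- invariance on blocks -/
theorem om_congr [M.IsPrime] {χ ψ φ : G → ℂ} (hχ : IsClassFunction G χ) (hψ : IsClassFunction G ψ) (h : SameBlock M χ ψ)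
    (hφ : IsClassFunction G φ) (hi : ∀ g, IsIntegral ℤ (φ g)) : MemLocalIdeal M (om χ φ - om ψ φ) := by
  classical
  have := Fintype.ofFinite (ConjClasses G)
  rw [om_eq_sum hχ hφ, om_eq_sum hψ hφ]
  refine memLocalIdeal_sum_sub_sum fun c _ => ?_
  rw [← sub_mul]
  exact memLocalIdeal_mul_right (h _) (memLocalRing_of_isIntegral (int_conj (hi _)))

theorem om_one (φ : G → ℂ) : om (fun _ => 1) φ = Nat.card G * classInner (fun _ => 1) φ := by
  rw [om, div_one]

/-- members of the principal block -/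
theorem om_prin [M.IsPrime] {χ : IrrCharacter G} (h : χ ∈ principalBlock M G) {φ : G → ℂ}
    (hφ : IsClassFunction G φ) (hi : ∀ g, IsIntegral ℤ (φ g)) :
    MemLocalIdeal M (om χ φ - Nat.card G * classInner (fun _ => 1) φ) := by
  rw [← om_one]
  exact memLocalIdeal_sub_comm (om_congr (fun _ _ => rfl) (Basic.irr_isClassFunction χ.2) h hφ hi)

/-! ### exponents -/

omit [Fintype G]

/-- if `a = b z` with `z` a local integer, the exponent of `l` in `b` is at most the one in `a` -/
theorem fact_le_of_ring (hM : IsPModular l M) {a b : ℤ} {z : ℂ} (hz : MemLocalRing M z) (h : (a : ℂ) = b * z)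
    (ha : a ≠ 0) : b.natAbs.factorization l ≤ a.natAbs.factorization l := by
  have := isPrime_of_isPModular hM
  have hl := hM.1
  by_contra hc
  rw [not_le] at hc
  have hb : b ≠ 0 := fun e => ha (by rw [e, Int.cast_zero, zero_mul] at h; exact_mod_cast h)
  obtain ⟨a', ha'⟩ : (l : ℤ) ^ a.natAbs.factorization l ∣ a := by
    rw [← Int.natCast_pow, Int.natCast_dvd]
    exact Nat.ordProj_dvd _ _
  obtain ⟨b', hb'⟩ : (l : ℤ) ^ (a.natAbs.factorization l + 1) ∣ b := by
    rw [← Int.natCast_pow, Int.natCast_dvd]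
    exact (hl.pow_dvd_iff_le_factorization (Int.natAbs_ne_zero.2 hb)).2 hc
  have h1 : (a' : ℂ) = l * (b' * z) := by
    apply mul_left_cancel₀ (pow_ne_zero (a.natAbs.factorization l) (Nat.cast_ne_zero.2 hl.ne_zero : (l : ℂ) ≠ 0))
    have h2 := congrArg (Int.cast : ℤ → ℂ) ha'
    have h3 := congrArg (Int.cast : ℤ → ℂ) hb'
    push_cast at h2 h3
    rw [← h2, h, h3]
    ring
  have h4 : (l : ℤ) ∣ a' := (memLocalIdeal_intCast_iff hM a').1 (h1 ▸ memLocalIdeal_mul_right (memLocalIdeal_p hM)
    (memLocalRing_mul (memLocalRing_intCast _) hz))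
  have h5 : (l : ℤ) ^ (a.natAbs.factorization l + 1) ∣ a := by
    conv_rhs => rw [ha']
    rw [pow_succ]
    exact mul_dvd_mul_left _ h4
  rw [← Int.natCast_pow, Int.natCast_dvd, hl.pow_dvd_iff_le_factorization (Int.natAbs_ne_zero.2 ha)] at h5
  omega

/-- if `a = b z` with `z` a local unit, the exponents of `l` in `a` and `b` are equal -/
theorem fact_eq_of_unit (hM : IsPModular l M) {a b : ℤ} {z : ℂ} (hz : MemLocalRing M z) (hu : ¬ MemLocalIdeal M z)
    (h : (a : ℂ) = b * z) (hb : b ≠ 0) : a ≠ 0 ∧ a.natAbs.factorization l = b.natAbs.factorization l := by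
  have := isPrime_of_isPModular hM
  have h0 := ne_zero_of_not_memLocalIdeal hu
  have ha : a ≠ 0 := fun e => mul_ne_zero (Int.cast_ne_zero.2 hb : (b : ℂ) ≠ 0) h0 (by rw [← h, e, Int.cast_zero])
  exact ⟨ha, le_antisymm (fact_le_of_ring hM (memLocalRing_inv hz hu) (by rw [h, mul_inv_cancel_right₀ h0]) hb)
    (fact_le_of_ring hM hz h ha)⟩

end Cfsg.Agent.LV.Blk
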