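import Cfsg.Agent.LV.Blk.Gen
import Cfsg.Agent.KZ.Lie.Desc
import Cfsg.Agent.LV.Red.Defs

/-!
# LV, the block layer: Deligne-Lusztig characters and blocks (helper68)

* `IsL l c` : the label has `l`-power order; `LS D l w` the group of these labels fixed by `w F`, `card_LS`;
* `Phi f l w c` : the sum of the `RW f w (c * η)` over the labels `η` of `l`-power order; `Phi_eq`;
* `mL f l w c χ` : the sum of the multiplicities; `mL_eq`, `mL_int`;
* `deg_le`, `dvd_of_deg`, `blk_congr`, `prin`, `hz_of_mL`.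
-/

set_option autoImplicit false
set_option linter.unusedSectionVars false

namespace Cfsg.Agent.LV.Blk

open Cfsg Cfsg.Agent.DL Cfsg.Agent.DL.PP Cfsg.Agent.DL.Uni Cfsg.Agent.DL.Asm Cfsg.Agent.Nodes.Reps Matrix
  Cfsg.Agent.Characters.Core Cfsg.Agent.Blocks.Local Cfsg.Agent.Blocks Cfsg.Agent.KZ.Lie
open scoped ComplexConjugate

theorem pconst_reg {Γ : Type*} [Group Γ] {p l : ℕ} (hp : p.Prime) (hl : l.Prime) (h : l ≠ p) (H : Subgroup Γ) :
    PConst p H (reg l) where
  cls g _ x _ := reg_cls l g x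
  jordan s _ u _ hs hu hc := by
    obtain ⟨j, hj⟩ := hu
    have h1 : orderOf (s * u) = orderOf s * p ^ j := by
      rw [← hj]
      exact Commute.orderOf_mul_eq_mul_orderOf_of_coprime hc
        (hj ▸ ((hp.coprime_iff_not_dvd.2 hs).pow_left j).symm)
    by_cases h2 : l ∣ orderOf s
    · rw [reg_of_not h2, reg_of_not (h1 ▸ h2.mul_right _)]
    · rw [reg_of h2, reg_of fun h3 => (hl.dvd_mul.1 (h1 ▸ h3)).elim h2 fun h4 =>
        h ((Nat.prime_dvd_prime_iff_eq hl hp).1 (hl.dvd_of_dvd_pow h4))]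

/-- the order of the label is a power of `l` -/
def IsL {A : Type*} [Monoid A] (l : ℕ) (c : A) : Prop := ∃ j : ℕ, c ^ l ^ j = 1

theorem isL_one {A : Type*} [Monoid A] (l : ℕ) : IsL l (1 : A) := ⟨0, one_pow _⟩

theorem IsL.mul {A : Type*} [CommMonoid A] {l : ℕ} {a b : A} (ha : IsL l a) (hb : IsL l b) : IsL l (a * b) := by
  obtain ⟨i, hi⟩ := ha
  obtain ⟨j, hj⟩ := hb
  exact ⟨i + j, by rw [mul_pow, pow_add, pow_mul, hi, one_pow, mul_comm (l ^ i), pow_mul, hj, one_pow, one_mul]⟩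

theorem IsL.inv {A : Type*} [Group A] {l : ℕ} {a : A} (ha : IsL l a) : IsL l a⁻¹ :=
  ha.imp fun _ h => by rw [inv_pow, h, inv_one]

variable {p : ℕ} [Fact p.Prime] {k : Type} [Field k] [CharP k p] {Y : Type} [Group Y] {N : Type} [Fintype N]
  [DecidableEq N] {ρ : Y →* GL N k} {F : MulAut Y} {G : Subgroup Y} [IsAlgClosed k] {D : Datum p ρ F G}
  {M : Ideal AlgInt} {l : ℕ} {w : D.W} {c : Lbl D} [Fintype ↥(GF F G)]

variable (D) in
/-- the labels fixed by `w F` -/
def FS (w : D.W) : Subgroup (Lbl D) where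
  carrier := {c | Fx D w c}
  one_mem' := fx_one w
  mul_mem' := fx_mul
  inv_mem' := fx_inv

variable (D) in
/-- the labels of `l`-power order fixed by `w F` -/
def LS (l : ℕ) (w : D.W) : Subgroup (Lbl D) where
  carrier := {c | Fx D w c ∧ IsL l c}
  one_mem' := ⟨fx_one w, isL_one l⟩
  mul_mem' ha hb := ⟨fx_mul ha.1 hb.1, ha.2.mul hb.2⟩
  inv_mem' ha := ⟨fx_inv ha.1, ha.2.inv⟩

theorem card_FS (w : D.W) : Nat.card (FS D w) = ordT D w := card_Fx D w

instance finite_FS (w : D.W) : Finite (FS D w) := finite_Fx D w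

theorem LS_le (l : ℕ) (w : D.W) : LS D l w ≤ FS D w := fun _ h => h.1

instance finite_LS (l : ℕ) (w : D.W) : Finite (LS D l w) :=
  Finite.of_injective _ (Subgroup.inclusion_injective (LS_le l w))

theorem pow_ordT (h : Fx D w c) : c ^ ordT D w = 1 := by
  rw [← card_FS]
  exact congrArg Subtype.val (pow_card_eq_one' (x := (⟨c, h⟩ : FS D w)))

theorem card_LS (hl : l.Prime) (w : D.W) : Nat.card (LS D l w) = l ^ (ordT D w).factorization l := by
  have : Fact l.Prime := ⟨hl⟩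
  let P : Sylow l (FS D w) := ⟨(LS D l w).subgroupOf (FS D w),
    fun x => x.2.2.imp fun _ h => Subtype.ext (Subtype.ext h),
    fun {Q} hQ h => le_antisymm (fun x hx => ⟨x.2, (hQ ⟨x, hx⟩).imp fun _ e => congrArg (fun z => z.1.1) e⟩) h⟩
  rw [← card_FS, ← P.card_eq_multiplicity]
  exact (Nat.card_congr (Subgroup.subgroupOfEquivOfLe (LS_le l w)).toEquiv).symm

variable (f : Fr D)

theorem th_pow (h : Fx D w c) (n : ℕ) {t : Y} (ht : t ∈ Tw D w ⊓ GF F G) : th f w (c ^ n) t = th f w c t ^ n := by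
  induction n with
  | zero => rw [pow_zero, pow_zero, th_one w t ht]
  | succ n ih => rw [pow_succ, pow_succ, th_mul (fx_pow h n) h t ht, ih]

theorem th_pow' (h : Fx D w c) (n : ℕ) {t : Y} (ht : t ∈ Tw D w ⊓ GF F G) : th f w c (t ^ n) = th f w c t ^ n := by
  induction n with
  | zero => rw [pow_zero, pow_zero, (th_spec f h).1.one]
  | succ n ih => rw [pow_succ, pow_succ, (th_spec f h).1.mul _ (pow_mem ht n) _ ht, ih]

/-- the labels separate the points of the torus -/
theorem exists_th_ne {t : Y} (ht : t ∈ Tw D w ⊓ GF F G) (h1 : t ≠ 1) : ∃ c, Fx D w c ∧ th f w c t ≠ 1 := by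
  have := (sys' D).finT (Tw D w)
  obtain ⟨θ, hθ⟩ := exists_hom_ne_one ((sys' D).comm _ (Tw_mem w)) (k := ⟨t, ht⟩) fun e => h1 (congrArg Subtype.val e)
  obtain ⟨c, hc⟩ := exists_lab f.L f.hζ (yw_mem D w) (yw_rp D w) (isLin_lin θ)
  have h2 := hc.fx f.L f.hζ (yw_mem D w) (yw_rp D w)
  refine ⟨c, h2, ?_⟩
  rw [th_ext h2 hc t ht, lin_apply θ ht]
  exact fun e => hθ (Units.ext e)

/-- the sum of the characters of `l`-power order -/
theorem sum_th (hl : l.Prime) [Fintype (LS D l w)] {t : Y} (ht : t ∈ Tw D w ⊓ GF F G) :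
    ∑ η : LS D l w, th f w η t = (l : ℂ) ^ (ordT D w).factorization l * reg l t := by
  by_cases h : l ∣ orderOf t
  · rw [reg_of_not h, mul_zero]
    let φ : LS D l w →* ℂ :=
      { toFun := fun η => th f w η t
        map_one' := th_one w t ht
        map_mul' := fun a b => th_mul a.2.1 b.2.1 t ht }
    refine sum_hom_units_eq_zero φ fun e => ?_
    have h1 : t ^ (ordT D w / l ^ (ordT D w).factorization l) ≠ 1 := fun e1 =>
      Nat.not_dvd_ordCompl hl (ordT_ne w) (h.trans (orderOf_dvd_of_pow_eq_one e1))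
    obtain ⟨c, hc, h2⟩ := exists_th_ne f (pow_mem ht _) h1
    rw [th_pow' f hc _ ht, ← th_pow f hc _ ht] at h2
    exact h2 (DFunLike.congr_fun e ⟨_, fx_pow hc _, (ordT D w).factorization l, by
      rw [← pow_mul, mul_comm, Nat.ordProj_mul_ordCompl_eq_self, pow_ordT hc]⟩)
  · rw [reg_of h, mul_one, Finset.sum_congr rfl (g := fun _ => (1 : ℂ)) fun η _ => ?_, Finset.sum_const, Finset.card_univ,
      ← Nat.card_eq_fintype_card, card_LS hl, nsmul_eq_mul, mul_one, Nat.cast_pow]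
    obtain ⟨j, hj⟩ := η.2.2
    refine (pow_eq_one_iff_of_coprime ((hl.coprime_iff_not_dvd.2 h).pow_left j)).1 ⟨?_, ?_⟩
    · rw [← th_pow f η.2.1 _ ht, hj, th_one w t ht]
    · rw [← th_pow' f η.2.1 _ ht, pow_orderOf_eq_one, (th_spec f η.2.1).1.one]

/-- sums over the labels of `l`-power order -/
theorem finsum_isL [Fintype (LS D l w)] (h : Fx D w c) {A : Type*} [AddCommMonoid A] (Ψ : (GF F G → ℂ) → A)
    (h0 : Ψ 0 = 0) : ∑ᶠ (η : Lbl D) (_ : IsL l η), Ψ (RW f w (c * η)) = ∑ η : LS D l w, Ψ (RW f w (c * η)) := by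
  classical
  rw [← finsum_eq_sum_of_fintype, show ∑ᶠ η : LS D l w, Ψ (RW f w (c * η)) =
    ∑ᶠ (η : Lbl D) (_ : η ∈ LS D l w), Ψ (RW f w (c * η)) from
      finsum_subtype_eq_finsum_cond (f := fun η => Ψ (RW f w (c * η))) _]
  refine finsum_congr fun η => ?_
  rw [finsum_eq_if, finsum_eq_if]
  by_cases h1 : Fx D w η
  · exact if_congr ⟨fun e => ⟨h1, e⟩, fun e => e.2⟩ rfl rfl
  · rw [RW_zero f fun e => h1 (by simpa using fx_mul (fx_inv h) e), h0, ite_self, ite_self]

/-- the sum of the characters with the labels `c * η`, `η` of `l`-power order -/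
noncomputable def Phi (l : ℕ) (w : D.W) (c : Lbl D) (g : GF F G) : ℂ :=
  ∑ᶠ (η : Lbl D) (_ : IsL l η), RW f w (c * η) g

theorem Phi_sum [Fintype (LS D l w)] (h : Fx D w c) : Phi f l w c = ∑ η : LS D l w, RW f w (c * η) := funext fun g => by
  rw [Finset.sum_apply]
  exact finsum_isL f h (fun φ => φ g) rfl

/-- **The product formula.** -/
theorem Phi_eq (hl : l.Prime) (hp : l ≠ p) (h : Fx D w c) (g : GF F G) :
    Phi f l w c g = (l : ℂ) ^ (ordT D w).factorization l * (reg l g * RW f w c g) := by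
  have := Fintype.ofFinite (LS D l w)
  have h1 : (∑ η : LS D l w, RW f w (c * η)) g = R D (Tw D w) (∑ η : LS D l w, th f w (c * η)) g := by
    rw [map_sum, Finset.sum_apply, Finset.sum_apply]
    rfl
  rw [Phi_sum f h, h1, (sys' D).R_congr (Tw_mem w)
    (g := (l : ℂ) ^ (ordT D w).factorization l • (reg l * th f w c)) (fun t ht => ?_) g g.2, map_smul, Pi.smul_apply,
    (sys' D).pconst _ (Tw_mem w) _ _ (pconst_reg Fact.out hl hp _) g g.2, reg_coe, smul_eq_mul]
  · rfl
  · rw [Finset.sum_apply, Finset.sum_congr rfl fun (η : LS D l w) _ => th_mul h η.2.1 t ht, ← Finset.mul_sum, sum_th f hl ht,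
      Pi.smul_apply, Pi.mul_apply, smul_eq_mul]
    ring

theorem Phi_gen (h : Fx D w c) : IsGeneralizedCharacter ↥(GF F G) (Phi f l w c) := by
  have := Fintype.ofFinite (LS D l w)
  rw [Phi_sum f h]
  exact gen_sum fun η => RW_gen f w _

/-- the sum of the multiplicities -/
noncomputable def mL (l : ℕ) (w : D.W) (c : Lbl D) (χ : GF F G → ℂ) : ℂ :=
  ∑ᶠ (η : Lbl D) (_ : IsL l η), classInner χ (RW f w (c * η))

theorem mL_sum [Fintype (LS D l w)] (h : Fx D w c) (χ : GF F G → ℂ) :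
    mL f l w c χ = ∑ η : LS D l w, classInner χ (RW f w (c * η)) :=
  finsum_isL f h (classInner χ) (classInner_zero_right χ)

theorem mL_one (l : ℕ) (w : D.W) (χ : GF F G → ℂ) :
    mL f l w 1 χ = ∑ᶠ (η : Lbl D) (_ : IsL l η), classInner χ (RW f w η) := by
  simp only [mL, one_mul]

theorem mL_Phi (h : Fx D w c) (χ : GF F G → ℂ) : mL f l w c χ = classInner χ (Phi f l w c) := by
  have := Fintype.ofFinite (LS D l w)
  rw [mL_sum f h, Phi_sum f h, classInner_sum_right]

theorem mL_int (h : Fx D w c) {χ : GF F G → ℂ} (hχ : IsGeneralizedCharacter ↥(GF F G) χ) : ∃ m : ℤ, mL f l w c χ = m := by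
  rw [mL_Phi f h]
  exact inner_int hχ (Phi_gen f h)

theorem mL_reg (hl : l.Prime) (hp : l ≠ p) (h : Fx D w c) (χ : GF F G → ℂ) :
    mL f l w c χ = (l : ℂ) ^ (ordT D w).factorization l * classInner χ (reg l * RW f w c) := by
  rw [mL_Phi f h, show Phi f l w c = (l : ℂ) ^ (ordT D w).factorization l • (reg l * RW f w c) from
    funext (Phi_eq f hl hp h), classInner_smul_right, map_pow, map_natCast]

theorem mL_eq (hl : l.Prime) (hp : l ≠ p) (h : Fx D w c) {χ : GF F G → ℂ} (hχ : χ 1 ≠ 0) :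
    mL f l w c χ * Nat.card ↥(GF F G) = (l : ℂ) ^ (ordT D w).factorization l * χ 1 * om χ (reg l * RW f w c) := by
  rw [mL_reg f hl hp h, mul_assoc _ (χ 1), om_mul hχ]
  ring

theorem regRW_cls (l : ℕ) (w : D.W) (c : Lbl D) : IsClassFunction ↥(GF F G) (reg l * RW f w c) := fun g h => by
  rw [Pi.mul_apply, Pi.mul_apply, reg_cls, gen_cls (RW_gen f w c)]

theorem regRW_int (l : ℕ) (w : D.W) (c : Lbl D) (g : GF F G) : IsIntegral ℤ ((reg l * RW f w c : GF F G → ℂ) g) :=
  (reg_int l g).mul (gen_int (RW_gen f w c) g)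

open Classical in
/-- the trivial character -/
theorem mL_triv (h : Fx D w c) : mL f l w c (fun _ => 1) = if IsL l c then 1 else 0 := by
  have := Fintype.ofFinite (LS D l w)
  rw [mL_sum f h, Finset.sum_congr rfl fun (η : LS D l w) _ => ip_one (f := f) w (c * η)]
  split_ifs with h1
  · rw [Finset.sum_eq_single (⟨c⁻¹, fx_inv h, h1.inv⟩ : LS D l w), if_pos (mul_inv_cancel c)]
    · exact fun b _ hb => if_neg fun e => hb (Subtype.ext (eq_inv_of_mul_eq_one_right e))
    · exact fun e => absurd (Finset.mem_univ _) e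
  · exact Finset.sum_eq_zero fun η _ => if_neg fun e => h1 (by
      rw [eq_inv_of_mul_eq_one_left e]
      exact η.2.2.inv)

theorem fact_T_le (l : ℕ) (w : D.W) : (ordT D w).factorization l ≤ (Nat.card ↥(GF F G)).factorization l := by
  rw [← card_Tw]
  have := (sys' D).finT (Tw D w)
  exact (Nat.factorization_le_iff_dvd Nat.card_pos.ne' Nat.card_pos.ne').2 (Subgroup.card_dvd_of_le inf_le_right) l

variable (D) in
/-- the torus of type `w` contains a Sylow `l`-subgroup -/
def SylT (l : ℕ) (w : D.W) : Prop := (Nat.card ↥(GF F G)).factorization l = (ordT D w).factorization l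

section

variable (hM : IsPModular l M) (hp : l ≠ p)
include hM hp

theorem cast_eq (h : Fx D w c) (χ : IrrCharacter ↥(GF F G)) {m : ℤ} (hm : mL f l w c χ = m) :
    ((m * Nat.card ↥(GF F G) : ℤ) : ℂ) = ((l ^ (ordT D w).factorization l * charDegree (χ : GF F G → ℂ) : ℕ) : ℤ) *
      om χ (reg l * RW f w c) := by
  have h1 := mL_eq f hM.1 hp h (Basic.irr_one_ne_zero χ.2)
  rw [hm, Basic.irr_one_eq_charDegree χ.2] at h1
  push_cast
  exact h1

omit hp in
theorem fact_aux (χ : IrrCharacter ↥(GF F G)) {m : ℤ} (hm : m ≠ 0) :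
    (m * Nat.card ↥(GF F G) : ℤ).natAbs.factorization l =
      m.natAbs.factorization l + (Nat.card ↥(GF F G)).factorization l ∧
    ((l ^ (ordT D w).factorization l * charDegree (χ : GF F G → ℂ) : ℕ) : ℤ).natAbs.factorization l =
      (charDegree (χ : GF F G → ℂ)).factorization l + (ordT D w).factorization l := by
  constructor
  · rw [Int.natAbs_mul, Int.natAbs_natCast, Nat.factorization_mul (Int.natAbs_ne_zero.2 hm) Nat.card_pos.ne',
      Finsupp.add_apply]
  · rw [Int.natAbs_natCast, Nat.factorization_mul (pow_pos hM.1.pos _).ne' (Basic.charDegree_pos χ.2).ne',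
      Finsupp.add_apply, hM.1.factorization_pow, Finsupp.single_eq_same, add_comm]

/-- **B1**, any torus, any irreducible character, any label -/
theorem deg_le (h : Fx D w c) (χ : IrrCharacter ↥(GF F G)) {m : ℤ} (hm : mL f l w c χ = m) (h0 : m ≠ 0) :
    (charDegree (χ : GF F G → ℂ)).factorization l + (ordT D w).factorization l ≤
      m.natAbs.factorization l + (Nat.card ↥(GF F G)).factorization l := by
  have := isPrime_of_isPModular hM
  have h1 := fact_le_of_ring hM (memLocalRing_of_isIntegral (om_int χ.2 (regRW_cls f l w c) (regRW_int f l w c)))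
    (cast_eq f hM hp h χ hm) (mul_ne_zero h0 (Int.natCast_ne_zero.2 Nat.card_pos.ne'))
  rwa [(fact_aux (w := w) hM χ h0).1, (fact_aux (w := w) hM χ h0).2] at h1

/-- **B1** -/
theorem dvd_of_deg (hS : SylT D l w) (h : Fx D w c) (χ : IrrCharacter ↥(GF F G)) {m : ℤ} (hm : mL f l w c χ = m) {j : ℕ}
    (hj : l ^ j ∣ charDegree (χ : GF F G → ℂ)) : (l : ℤ) ^ j ∣ m := by
  by_cases h0 : m = 0
  · rw [h0]
    exact dvd_zero _
  · have h1 := deg_le f hM hp h χ hm h0
    rw [hS] at h1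
    rw [hM.1.pow_dvd_iff_le_factorization (Basic.charDegree_pos χ.2).ne'] at hj
    rw [← Int.natCast_pow, Int.natCast_dvd, hM.1.pow_dvd_iff_le_factorization (Int.natAbs_ne_zero.2 h0)]
    omega

omit hp in
theorem unit_syl (hS : SylT D l w) : MemLocalRing M ((l : ℂ) ^ (ordT D w).factorization l / Nat.card ↥(GF F G)) ∧
    ¬ MemLocalIdeal M ((l : ℂ) ^ (ordT D w).factorization l / Nat.card ↥(GF F G)) := by
  have := isPrime_of_isPModular hM
  have h1 := Nat.not_dvd_ordCompl hM.1 (Nat.card_pos (α := ↥(GF F G))).ne'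
  have h2 : (l : ℂ) ^ (ordT D w).factorization l / Nat.card ↥(GF F G) =
      ((Nat.card ↥(GF F G) / l ^ (Nat.card ↥(GF F G)).factorization l : ℕ) : ℂ)⁻¹ := by
    conv_lhs => rw [← Nat.ordProj_mul_ordCompl_eq_self (Nat.card ↥(GF F G)) l, Nat.cast_mul, Nat.cast_pow, ← hS]
    rw [div_mul_eq_div_div, div_self (pow_ne_zero _ (Nat.cast_ne_zero.2 hM.1.ne_zero)), one_div]
  rw [h2]
  exact ⟨memLocalRing_inv_natCast hM h1,
    not_memLocalIdeal_inv (memLocalRing_natCast _) fun e => h1 ((memLocalIdeal_natCast_iff hM _).1 e)⟩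

theorem mL_div (h : Fx D w c) {χ : GF F G → ℂ} (hχ : χ 1 ≠ 0) : mL f l w c χ / χ 1 =
    (l : ℂ) ^ (ordT D w).factorization l / Nat.card ↥(GF F G) * om χ (reg l * RW f w c) := by
  rw [div_mul_eq_mul_div, div_eq_div_iff hχ card_ne_zero_complex, mL_eq f hM.1 hp h hχ]
  ring

/-- the quotient is a local integer -/
theorem blk_ring (hS : SylT D l w) (h : Fx D w c) (χ : IrrCharacter ↥(GF F G)) :
    MemLocalRing M (mL f l w c χ / (χ : GF F G → ℂ) 1) := by
  have := isPrime_of_isPModular hM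
  rw [mL_div f hM hp h (Basic.irr_one_ne_zero χ.2)]
  exact memLocalRing_mul (unit_syl hM hS).1
    (memLocalRing_of_isIntegral (om_int χ.2 (regRW_cls f l w c) (regRW_int f l w c)))

/-- **B2**: the quotient is an invariant of the block -/
theorem blk_congr (hS : SylT D l w) (h : Fx D w c) {χ ψ : IrrCharacter ↥(GF F G)}
    (hb : SameBlock M (χ : GF F G → ℂ) ψ) :
    MemLocalIdeal M (mL f l w c χ / (χ : GF F G → ℂ) 1 - mL f l w c ψ / (ψ : GF F G → ℂ) 1) := by
  have := isPrime_of_isPModular hM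
  rw [mL_div f hM hp h (Basic.irr_one_ne_zero χ.2), mL_div f hM hp h (Basic.irr_one_ne_zero ψ.2), ← mul_sub]
  exact memLocalIdeal_mul_left (unit_syl hM hS).1 (om_congr (Basic.irr_isClassFunction χ.2)
    (Basic.irr_isClassFunction ψ.2) hb (regRW_cls f l w c) (regRW_int f l w c))

open Classical in
/-- members of the principal block, any torus -/
theorem om_prin_RW (h : Fx D w c) {χ : IrrCharacter ↥(GF F G)} (hχ : χ ∈ principalBlock M ↥(GF F G)) :
    MemLocalIdeal M (om χ (reg l * RW f w c) -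
      if IsL l c then ((Nat.card ↥(GF F G) / l ^ (ordT D w).factorization l : ℕ) : ℂ) else 0) := by
  have := isPrime_of_isPModular hM
  have h1 := om_prin hχ (regRW_cls f l w c) (regRW_int f l w c)
  have h2 := mL_reg f hM.1 hp h fun _ => 1
  have h3 : (l : ℂ) ^ (ordT D w).factorization l ≠ 0 := pow_ne_zero _ (Nat.cast_ne_zero.2 hM.1.ne_zero)
  rw [mL_triv f h] at h2
  convert h1 using 2
  split_ifs at h2 ⊢
  · rw [Nat.cast_div ((hM.1.pow_dvd_iff_le_factorization Nat.card_pos.ne').2 (fact_T_le l w)) (by exact_mod_cast h3),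
      Nat.cast_pow, div_eq_iff h3, mul_assoc, mul_comm _ ((l : ℂ) ^ _), ← h2, mul_one]
  · rw [(mul_eq_zero.1 h2.symm).resolve_left h3, mul_zero]

/-- **B3**: the height of a member of the principal block -/
theorem prin (hS : SylT D l w) {χ : IrrCharacter ↥(GF F G)} (hχ : χ ∈ principalBlock M ↥(GF F G)) {m : ℤ}
    (hm : mL f l w 1 χ = m) : m ≠ 0 ∧ m.natAbs.factorization l = (charDegree (χ : GF F G → ℂ)).factorization l := by
  have := isPrime_of_isPModular hM
  have h1 := om_prin_RW f hM hp (fx_one w) hχ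
  rw [if_pos (isL_one l), ← hS] at h1
  have h2 := fact_eq_of_unit hM (memLocalRing_of_isIntegral (om_int χ.2 (regRW_cls f l w 1) (regRW_int f l w 1)))
    (fun e => Nat.not_dvd_ordCompl hM.1 Nat.card_pos.ne' ((memLocalIdeal_natCast_iff hM _).1
      ((memLocalIdeal_iff_of_sub h1).1 e))) (cast_eq f hM hp (fx_one w) χ hm)
    (Int.natCast_ne_zero.2 (mul_pos (pow_pos hM.1.pos _) (Basic.charDegree_pos χ.2)).ne')
  have h0 : m ≠ 0 := left_ne_zero_of_mul h2.1
  have h3 := h2.2
  rw [(fact_aux (w := w) hM χ h0).1, (fact_aux (w := w) hM χ h0).2, hS] at h3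
  exact ⟨h0, by omega⟩

theorem prin_dvd_iff (hS : SylT D l w) {χ : IrrCharacter ↥(GF F G)} (hχ : χ ∈ principalBlock M ↥(GF F G)) {m : ℤ}
    (hm : mL f l w 1 χ = m) : l ∣ charDegree (χ : GF F G → ℂ) ↔ (l : ℤ) ∣ m := by
  obtain ⟨h0, h1⟩ := prin f hM hp hS hχ hm
  rw [Int.natCast_dvd, hM.1.dvd_iff_one_le_factorization (Int.natAbs_ne_zero.2 h0),
    hM.1.dvd_iff_one_le_factorization (Basic.charDegree_pos χ.2).ne', h1]

/-- a member of the principal block meets a label of `l`-power order -/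
theorem prin_meets (hS : SylT D l w) {χ : IrrCharacter ↥(GF F G)} (hχ : χ ∈ principalBlock M ↥(GF F G)) :
    ∃ η, Fx D w η ∧ IsL l η ∧ classInner (χ : GF F G → ℂ) (RW f w η) ≠ 0 := by
  have := Fintype.ofFinite (LS D l w)
  obtain ⟨m, hm⟩ := mL_int f (l := l) (fx_one w) (gen_of_irr χ.2)
  have h0 := (prin f hM hp hS hχ hm).1
  rw [mL_sum f (fx_one w)] at hm
  obtain ⟨η, -, h1⟩ := Finset.exists_ne_zero_of_sum_ne_zero (hm ▸ Int.cast_ne_zero.2 h0)
  exact ⟨η, η.2.1, η.2.2, by rwa [one_mul] at h1⟩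

/-- for labels which are not of `l`-power order the height goes up -/
theorem prin_other (hS : SylT D l w) (h : Fx D w c) (hc : ¬ IsL l c) {χ : IrrCharacter ↥(GF F G)}
    (hχ : χ ∈ principalBlock M ↥(GF F G)) : MemLocalIdeal M (mL f l w c χ / (χ : GF F G → ℂ) 1) := by
  have := isPrime_of_isPModular hM
  have h1 := om_prin_RW f hM hp h hχ
  rw [if_neg hc, sub_zero] at h1
  rw [mL_div f hM hp h (Basic.irr_one_ne_zero χ.2)]
  exact memLocalIdeal_mul_left (unit_syl hM hS).1 h1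

/-- **Height zero** from the multiplicities -/
theorem hz_of_mL (hS : SylT D l w)
    (h : ∀ (χ : IrrCharacter ↥(GF F G)) (m : ℤ), χ ∈ principalBlock M ↥(GF F G) → mL f l w 1 χ = m → m ≠ 0 → ¬ (l : ℤ) ∣ m) :
    HZ0 l M ↥(GF F G) := fun χ hχ hd => by
  obtain ⟨m, hm⟩ := mL_int f (l := l) (fx_one w) (gen_of_irr χ.2)
  exact h χ m hχ hm (prin f hM hp hS hχ hm).1 ((prin_dvd_iff f hM hp hS hχ hm).1 hd)

end

end Cfsg.Agent.LV.Blk
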