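import Cfsg.Agent.LV.Blk.Main
import Cfsg.Agent.Blocks.AvgTrace
import Cfsg.Agent.Blocks.Osima
import Cfsg.Agent.Blocks.FullDefect
import Cfsg.Agent.Blocks.ConvCentral

/-!
# LV, the block layer: the cubic identity (helper68)

* `Cen M ω` : `ω` is the family of the central characters of a central element with local integer coefficients;
* `Cen.pair` : the pairing with a virtual character which vanishes on the `l`-singular elements;
* `cub_ring`, `cub` : the cubic identity.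
-/

set_option autoImplicit false
set_option linter.unusedSectionVars false

namespace Cfsg.Agent.LV.Blk

open Cfsg Cfsg.Agent.DL Cfsg.Agent.DL.PP Cfsg.Agent.DL.Uni Cfsg.Agent.DL.Asm Cfsg.Agent.Nodes.Reps Matrix
  Cfsg.Agent.Characters.Core Cfsg.Agent.Blocks.Local Cfsg.Agent.Blocks Cfsg.Agent.KZ.Lie
open scoped ComplexConjugate

section

universe u

variable {G : Type u} [Group G] [Fintype G] {M : Ideal AlgInt} {l : ℕ}

theorem sum_cls [Fintype (ConjClasses G)] {φ : G → ℂ} (hφ : IsClassFunction G φ) :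
    ∑ g, φ g = ∑ c : ConjClasses G, (Subgroup.centralizer ({Quotient.out c} : Set G)).index * φ (Quotient.out c : G) := by
  have h := om_eq_sum (χ := fun _ => 1) (φ := fun g => conj (φ g)) (fun _ _ => rfl) fun g h => by
    beta_reduce
    rw [hφ]
  rw [om_eq] at h
  simpa [Basic.centralChar_def] using h

/-- the values of a virtual character which vanishes on the `l`-singular elements -/
theorem proj_div (hM : IsPModular l M) {Φ : G → ℂ} (hΦ : IsGeneralizedCharacter G Φ) (h0 : ∀ g, l ∣ orderOf g → Φ g = 0)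
    (g : G) : MemLocalRing M (Φ g / Nat.card (Subgroup.centralizer ({g} : Set G))) := by
  classical
  have := isPrime_of_isPModular hM
  have hl := hM.1
  have : Fact l.Prime := ⟨hl⟩
  by_cases hg : l ∣ orderOf g
  · rw [h0 g hg, zero_div]
    exact memLocalRing_zero
  obtain ⟨Q⟩ : Nonempty (Sylow l (Subgroup.centralizer ({g} : Set G))) := inferInstance
  let P := (Q : Subgroup _).map (Subgroup.centralizer ({g} : Set G)).subtype
  have hc : ∀ u ∈ P, Commute g u := by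
    rintro _ ⟨u, -, rfl⟩
    exact u.2 g rfl
  have h1 : IsIntegral ℤ ((Nat.card P : ℂ)⁻¹ * ∑ u : P, Φ (g * u)) := by
    obtain ⟨a, b, ha, hb, rfl⟩ := hΦ
    simp only [Pi.sub_apply, Finset.sum_sub_distrib, mul_sub]
    exact (AvgTrace.isIntegral_avg ha P g hc).sub (AvgTrace.isIntegral_avg hb P g hc)
  rw [Finset.sum_eq_single (1 : P) (fun u _ hu => h0 _ ?_) fun h => absurd (Finset.mem_univ _) h, Subgroup.coe_one,
    mul_one, Subgroup.card_map_of_injective (Subgroup.subtype_injective _)] at h1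
  · rw [← (Q : Subgroup _).card_mul_index, Nat.cast_mul, div_mul_eq_div_div, div_eq_mul_inv, div_eq_inv_mul]
    exact memLocalRing_mul (memLocalRing_of_isIntegral h1) (memLocalRing_inv_natCast hM Q.not_dvd_index)
  · obtain ⟨j, hj⟩ := (IsPGroup.iff_orderOf.1 (Q.2.map (Subgroup.centralizer ({g} : Set G)).subtype)) u
    rw [← Subgroup.orderOf_coe] at hj
    rw [(hc u u.2).orderOf_mul_eq_mul_orderOf_of_coprime (hj ▸ ((hl.coprime_iff_not_dvd.2 hg).pow_left j).symm), hj]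
    refine (dvd_pow_self l fun e => hu (Subtype.ext ?_)).mul_left _
    rwa [e, pow_zero, orderOf_eq_one_iff] at hj

variable (M) in
/-- the central characters of a central element with local integer coefficients -/
def Cen (ω : IrrCharacter G → ℂ) : Prop :=
  ∃ a : G → ℂ, IsClassFunction G a ∧ (∀ g, MemLocalRing M (a g)) ∧
    ∀ χ : IrrCharacter G, ConvCentral.lin (χ : G → ℂ) a = (χ : G → ℂ) 1 * ω χ

theorem Cen.mul [M.IsPrime] {ω ω' : IrrCharacter G → ℂ} (h : Cen M ω) (h' : Cen M ω') : Cen M fun χ => ω χ * ω' χ := by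
  obtain ⟨a, h1, h2, h3⟩ := h
  obtain ⟨a', h1', h2', h3'⟩ := h'
  refine ⟨ConvCentral.conv a a', ConvCentral.isClassFunction_conv h1 h1',
    fun g => memLocalRing_sum fun x _ => memLocalRing_mul (h2 _) (h2' _), fun χ => ?_⟩
  apply mul_right_cancel₀ (Basic.irr_one_ne_zero χ.2)
  rw [ConvCentral.lin_conv χ.2 h1, h3, h3']
  ring

theorem Cen.add [M.IsPrime] {ω ω' : IrrCharacter G → ℂ} (h : Cen M ω) (h' : Cen M ω') : Cen M fun χ => ω χ + ω' χ := by
  obtain ⟨a, h1, h2, h3⟩ := h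
  obtain ⟨a', h1', h2', h3'⟩ := h'
  refine ⟨fun g => a g + a' g, fun g h => by beta_reduce; rw [h1, h1'], fun g => memLocalRing_add (h2 _) (h2' _), fun χ => ?_⟩
  beta_reduce
  rw [mul_add, ← h3, ← h3', ConvCentral.lin_def, ConvCentral.lin_def, ConvCentral.lin_def, ← Finset.sum_add_distrib]
  exact Finset.sum_congr rfl fun g _ => add_mul _ _ _

theorem Cen.smul [M.IsPrime] {ω : IrrCharacter G → ℂ} (h : Cen M ω) {z : ℂ} (hz : MemLocalRing M z) :
    Cen M fun χ => z * ω χ := by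
  obtain ⟨a, h1, h2, h3⟩ := h
  refine ⟨fun g => z * a g, fun g h => by beta_reduce; rw [h1], fun g => memLocalRing_mul hz (h2 _), fun χ => ?_⟩
  beta_reduce
  rw [mul_left_comm, ← h3, ConvCentral.lin_def, ConvCentral.lin_def, Finset.mul_sum]
  exact Finset.sum_congr rfl fun g _ => mul_assoc _ _ _

theorem cen_om [M.IsPrime] {φ : G → ℂ} (hφ : IsClassFunction G φ) (hi : ∀ g, IsIntegral ℤ (φ g)) :
    Cen M fun χ : IrrCharacter G => om χ φ :=
  ⟨fun g => conj (φ g), fun g h => by beta_reduce; rw [hφ], fun g => memLocalRing_of_isIntegral (int_conj (hi g)),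
    fun χ => by
    beta_reduce
    rw [om_eq, mul_div_cancel₀ _ (Basic.irr_one_ne_zero χ.2), ConvCentral.lin_def]
    exact Finset.sum_congr rfl fun g _ => mul_comm _ _⟩

open Classical in
theorem cen_block (hM : IsPModular l M) {B : Set (IrrCharacter G)} (hB : IsPBlock M B) :
    Cen M fun χ => if χ ∈ B then 1 else 0 :=
  have : Fact l.Prime := ⟨hM.1⟩
  ⟨blockCoeff B, fun g h => (Basic.blockCoeff_isConj B (isConj_iff.2 ⟨h, rfl⟩)).symm,
    Osima.memLocalRing_blockCoeff hM hB, fun χ => by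
      beta_reduce
      rw [← FullDefect.lin_blockCoeff B χ, mul_div_cancel₀ _ (Basic.irr_one_ne_zero χ.2)]⟩

theorem prin_block (M : Ideal AlgInt) : IsPBlock M (principalBlock M G) := ⟨⟨_, Basic.isIrrCharacter_one⟩, rfl⟩

/-- the pairing with a virtual character which vanishes on the `l`-singular elements -/
theorem Cen.pair [Fintype (IrrCharacter G)] (hM : IsPModular l M) {ω : IrrCharacter G → ℂ} (h : Cen M ω) {Φ : G → ℂ}
    (hΦ : IsGeneralizedCharacter G Φ) (h0 : ∀ g, l ∣ orderOf g → Φ g = 0) :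
    MemLocalRing M ((Nat.card G : ℂ)⁻¹ * ∑ χ : IrrCharacter G, ω χ * (χ : G → ℂ) 1 * classInner (χ : G → ℂ) Φ) := by
  classical
  have := isPrime_of_isPModular hM
  have := Fintype.ofFinite (ConjClasses G)
  obtain ⟨a, h1, h2, h3⟩ := h
  have h4 : ∑ χ : IrrCharacter G, ω χ * (χ : G → ℂ) 1 * classInner (χ : G → ℂ) Φ = ∑ g, a g * Φ g := by
    conv_rhs => rw [classFunction_eq_sum (gen_cls hΦ)]
    simp only [Finset.sum_apply, Finset.mul_sum]
    rw [Finset.sum_comm]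
    refine Finset.sum_congr rfl fun χ _ => ?_
    obtain ⟨m, hm⟩ := inner_int (gen_of_irr χ.2) hΦ
    rw [← classInner_conj_symm (χ : G → ℂ) Φ, hm, map_intCast, mul_comm (ω χ), ← h3, ConvCentral.lin_def, Finset.sum_mul]
    exact Finset.sum_congr rfl fun g _ => by rw [Pi.smul_apply, smul_eq_mul]; ring
  rw [h4, sum_cls (φ := fun g => a g * Φ g) fun g h => by beta_reduce; rw [h1, gen_cls hΦ], Finset.mul_sum]
  refine memLocalRing_sum fun c _ => ?_
  convert memLocalRing_mul (h2 (Quotient.out c)) (proj_div hM hΦ h0 (Quotient.out c)) using 1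
  rw [← (Subgroup.centralizer ({Quotient.out c} : Set G)).card_mul_index, Nat.cast_mul]
  have h5 : ((Subgroup.centralizer ({Quotient.out c} : Set G)).index : ℂ) ≠ 0 :=
    Nat.cast_ne_zero.2 Subgroup.index_ne_zero_of_finite
  field_simp

end

variable {p : ℕ} [Fact p.Prime] {k : Type} [Field k] [CharP k p] {Y : Type} [Group Y] {N : Type} [Fintype N]
  [DecidableEq N] {ρ : Y →* GL N k} {F : MulAut Y} {G : Subgroup Y} [IsAlgClosed k] {D : Datum p ρ F G}
  {M : Ideal AlgInt} {l : ℕ} [Fintype ↥(GF F G)] (f : Fr D) (hM : IsPModular l M) (hp : l ≠ p)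
include hM hp

theorem Phi_zero {w : D.W} {c : Lbl D} (h : Fx D w c) (g : GF F G) (hg : l ∣ orderOf g) : Phi f l w c g = 0 := by
  rw [Phi_eq f hM.1 hp h, reg_of_not hg, zero_mul, mul_zero]

omit hp in
theorem cen_RW (w : D.W) (c : Lbl D) : Cen M fun χ : IrrCharacter ↥(GF F G) => om χ (reg l * RW f w c) :=
  have := isPrime_of_isPModular hM
  cen_om (regRW_cls f l w c) (regRW_int f l w c)

/-- the general form: `ω` central, the last torus arbitrary -/
theorem pair_mL [Fintype (IrrCharacter ↥(GF F G))] {ω : IrrCharacter ↥(GF F G) → ℂ} (h : Cen M ω) {w : D.W} {c : Lbl D}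
    (hc : Fx D w c) : MemLocalRing M ((Nat.card ↥(GF F G) : ℂ)⁻¹ *
      ∑ χ : IrrCharacter ↥(GF F G), ω χ * (χ : GF F G → ℂ) 1 * mL f l w c χ) := by
  simp only [mL_Phi f hc]
  exact h.pair hM (Phi_gen f hc) (Phi_zero f hM hp hc)

/-- the cubic sum over a block, three arbitrary tori -/
theorem cub_ring {B : Set (IrrCharacter ↥(GF F G))} (hB : IsPBlock M B) {s : Finset (IrrCharacter ↥(GF F G))}
    (hs : ∀ χ, χ ∈ s ↔ χ ∈ B) {w₁ w₂ w₃ : D.W} {c₁ c₂ c₃ : Lbl D} (h₁ : Fx D w₁ c₁) (h₂ : Fx D w₂ c₂) (h₃ : Fx D w₃ c₃) :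
    MemLocalRing M ((Nat.card ↥(GF F G) : ℂ) / l ^ ((ordT D w₁).factorization l + (ordT D w₂).factorization l) *
      ∑ χ ∈ s, mL f l w₁ c₁ χ * mL f l w₂ c₂ χ * mL f l w₃ c₃ χ / (χ : GF F G → ℂ) 1) := by
  classical
  have := isPrime_of_isPModular hM
  have := @Fintype.ofFinite _ (finite_irr (G := ↥(GF F G)))
  convert pair_mL f hM hp (((cen_RW f hM w₁ c₁).mul (cen_RW f hM w₂ c₂)).mul (cen_block hM hB)) h₃ using 1
  rw [Finset.mul_sum, Finset.mul_sum, show s = Finset.univ.filter (· ∈ B) by ext; simp [hs], Finset.sum_filter]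
  refine Finset.sum_congr rfl fun χ _ => ?_
  split_ifs
  · have h1 := Basic.irr_one_ne_zero χ.2
    have h2 := mL_eq f hM.1 hp h₁ h1
    have h3 := mL_eq f hM.1 hp h₂ h1
    have h4 : (l : ℂ) ≠ 0 := Nat.cast_ne_zero.2 hM.1.ne_zero
    have h5 : (Nat.card ↥(GF F G) : ℂ) ≠ 0 := card_ne_zero_complex
    rw [eq_div_of_mul_eq h5 h2, eq_div_of_mul_eq h5 h3, pow_add]
    field_simp
  · rw [mul_zero, zero_mul, zero_mul, mul_zero]

theorem cub_ring' {B : Set (IrrCharacter ↥(GF F G))} (hB : IsPBlock M B) {s : Finset (IrrCharacter ↥(GF F G))}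
    (hs : ∀ χ, χ ∈ s ↔ χ ∈ B) {w₁ w₂ w₃ : D.W} {c₁ c₂ c₃ : Lbl D} (h₁ : Fx D w₁ c₁) (h₂ : Fx D w₂ c₂) (h₃ : Fx D w₃ c₃)
    (h : (Nat.card ↥(GF F G)).factorization l ≤ (ordT D w₁).factorization l + (ordT D w₂).factorization l) :
    MemLocalRing M (∑ χ ∈ s, mL f l w₁ c₁ χ * mL f l w₂ c₂ χ * mL f l w₃ c₃ χ / (χ : GF F G → ℂ) 1) := by
  have := isPrime_of_isPModular hM
  obtain ⟨d, hd⟩ := Nat.exists_eq_add_of_le h
  have h1 := memLocalRing_mul (memLocalRing_mul (memLocalRing_pow (memLocalRing_natCast (M := M) l) d)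
    (memLocalRing_inv_natCast hM (Nat.not_dvd_ordCompl hM.1 (Nat.card_pos (α := ↥(GF F G))).ne')))
    (cub_ring f hM hp hB hs h₁ h₂ h₃)
  have h2 : (Nat.card ↥(GF F G) : ℂ) = (l : ℂ) ^ (Nat.card ↥(GF F G)).factorization l *
      (Nat.card ↥(GF F G) / l ^ (Nat.card ↥(GF F G)).factorization l : ℕ) := by
    rw [← Nat.cast_pow, ← Nat.cast_mul, Nat.ordProj_mul_ordCompl_eq_self]
  have h3 : ((Nat.card ↥(GF F G) / l ^ (Nat.card ↥(GF F G)).factorization l : ℕ) : ℂ) ≠ 0 :=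
    Nat.cast_ne_zero.2 (Nat.ordCompl_pos l Nat.card_pos.ne').ne'
  have h4 : (l : ℂ) ≠ 0 := Nat.cast_ne_zero.2 hM.1.ne_zero
  convert h1 using 1
  rw [hd, pow_add]
  generalize ((Nat.card ↥(GF F G) / l ^ (Nat.card ↥(GF F G)).factorization l : ℕ) : ℂ) = a at h2 h3 ⊢
  rw [h2]
  field_simp

/-- for a member of the principal block and a Sylow torus the quotient is congruent to `1` -/
theorem prin_quot {w : D.W} (hS : SylT D l w) {χ : IrrCharacter ↥(GF F G)} (hχ : χ ∈ principalBlock M ↥(GF F G)) :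
    MemLocalIdeal M (mL f l w 1 χ / (χ : GF F G → ℂ) 1 - 1) := by
  have := isPrime_of_isPModular hM
  have h1 := blk_congr f hM hp hS (fx_one w) (χ := ⟨_, Basic.isIrrCharacter_one⟩) (ψ := χ) hχ
  rw [show mL f l w 1 (⟨_, Basic.isIrrCharacter_one⟩ : IrrCharacter ↥(GF F G)) = 1 from
    (mL_triv f (fx_one w)).trans (if_pos (isL_one l))] at h1
  exact memLocalIdeal_sub_comm (by simpa using h1)

/-- **The cubic identity.**  `e` is the largest height in the principal block (or larger), `s` the set of the members of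
height `e`. -/
theorem cub {w₀ w₁ w₂ w₃ : D.W} {c₁ c₂ c₃ : Lbl D} (hS : SylT D l w₀) (h₁ : Fx D w₁ c₁) (h₂ : Fx D w₂ c₂)
    (h₃ : Fx D w₃ c₃)
    (h : (Nat.card ↥(GF F G)).factorization l ≤ (ordT D w₁).factorization l + (ordT D w₂).factorization l)
    {m₀ m₁ m₂ m₃ : IrrCharacter ↥(GF F G) → ℤ} (e₀ : ∀ χ : IrrCharacter ↥(GF F G), mL f l w₀ 1 χ = m₀ χ)
    (e₁ : ∀ χ : IrrCharacter ↥(GF F G), mL f l w₁ c₁ χ = m₁ χ) (e₂ : ∀ χ : IrrCharacter ↥(GF F G), mL f l w₂ c₂ χ = m₂ χ)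
    (e₃ : ∀ χ : IrrCharacter ↥(GF F G), mL f l w₃ c₃ χ = m₃ χ) {e : ℕ} (he : e ≠ 0)
    (hmax : ∀ χ ∈ principalBlock M ↥(GF F G), ¬ (l : ℤ) ^ (e + 1) ∣ m₀ χ) {s : Finset (IrrCharacter ↥(GF F G))}
    (hs : ∀ χ, χ ∈ s ↔ χ ∈ principalBlock M ↥(GF F G) ∧ (l : ℤ) ^ e ∣ m₀ χ) :
    ∑ χ ∈ s, (m₁ χ * m₂ χ * m₃ χ : ZMod l) * ((m₀ χ / (l : ℤ) ^ e : ℤ) : ZMod l)⁻¹ = 0 := by
  classical
  have := isPrime_of_isPModular hM
  have hl := hM.1
  have : Fact l.Prime := ⟨hl⟩
  have := @Fintype.ofFinite _ (finite_irr (G := ↥(GF F G)))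
  have h4 : (l : ℂ) ≠ 0 := Nat.cast_ne_zero.2 hl.ne_zero
  have h5 := memLocalIdeal_mul_right (memLocalIdeal_pow (memLocalIdeal_p hM) he)
    (cub_ring' f hM hp (prin_block M) (s := Finset.univ.filter (· ∈ principalBlock M ↥(GF F G))) (by simp) h₁ h₂ h₃ h)
  let n : IrrCharacter ↥(GF F G) → ℤ := fun χ => (((m₀ χ / (l : ℤ) ^ e : ℤ) : ZMod l)⁻¹).val
  have h6 : ∀ χ ∈ Finset.univ.filter (· ∈ principalBlock M ↥(GF F G)),
      MemLocalIdeal M ((l : ℂ) ^ e * (mL f l w₁ c₁ χ * mL f l w₂ c₂ χ * mL f l w₃ c₃ χ / (χ : GF F G → ℂ) 1) -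
        if (l : ℤ) ^ e ∣ m₀ χ then ((m₁ χ * m₂ χ * m₃ χ * n χ : ℤ) : ℂ) else 0) := fun χ hχ => by
    have hχ := (Finset.mem_filter.1 hχ).2
    have h7 := prin_quot f hM hp hS hχ
    have h8 := (prin f hM hp hS hχ (e₀ χ)).1
    have h9 := Basic.irr_one_ne_zero χ.2
    rw [e₀] at h7
    rw [e₁, e₂, e₃]
    have hr : MemLocalRing M ((m₁ χ * m₂ χ * m₃ χ : ℤ) : ℂ) := memLocalRing_intCast _
    have hq : MemLocalRing M (m₀ χ / (χ : GF F G → ℂ) 1) := e₀ χ ▸ blk_ring f hM hp hS (fx_one w₀) χ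
    split_ifs with hd
    · obtain ⟨a, ha⟩ := hd
      have ha0 : ¬ (l : ℤ) ∣ a := fun ⟨b, hb⟩ => hmax χ hχ ⟨b, by rw [ha, hb, pow_succ, mul_assoc]⟩
      have h10 : (l : ℤ) ∣ 1 - a * n χ := by
        rw [← ZMod.intCast_zmod_eq_zero_iff_dvd]
        simp only [n, ha, Int.mul_ediv_cancel_left a (pow_ne_zero e (Int.natCast_ne_zero.2 hl.ne_zero))]
        push_cast
        rw [ZMod.natCast_zmod_val, mul_inv_cancel₀ (mt (ZMod.intCast_zmod_eq_zero_iff_dvd a l).1 ha0), sub_self]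
      have ha1 : (a : ℂ) ≠ 0 := Int.cast_ne_zero.2 fun e => ha0 (e ▸ dvd_zero _)
      have h11 := memLocalIdeal_mul_left hr (memLocalIdeal_add (memLocalIdeal_mul_left (memLocalRing_intCast (n χ)) h7)
        (memLocalIdeal_mul_left (memLocalRing_div hq (memLocalRing_intCast a)
          (mt (memLocalIdeal_intCast_iff hM a).1 ha0)) ((memLocalIdeal_intCast_iff hM _).2 h10)))
      convert h11 using 1
      rw [ha]
      push_cast
      field_simp
      ring
    · obtain ⟨j, a, ha0, ha⟩ := WfDvdMonoid.max_power_factor h8 (Nat.prime_iff_prime_int.1 hl).irreducible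
      obtain ⟨d, rfl⟩ := Nat.exists_eq_add_of_lt (not_le.1 fun hj : e ≤ j => hd (ha ▸ (pow_dvd_pow _ hj).mul_right a))
      have ha1 : (a : ℂ) ≠ 0 := Int.cast_ne_zero.2 fun e => ha0 (e ▸ dvd_zero _)
      have h11 := memLocalIdeal_mul_left hr (memLocalIdeal_mul_left (memLocalRing_div hq (memLocalRing_intCast a)
        (mt (memLocalIdeal_intCast_iff hM a).1 ha0)) (memLocalIdeal_pow (memLocalIdeal_p hM) d.succ_ne_zero))
      convert h11 using 1
      rw [ha, Nat.succ_eq_add_one]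
      push_cast
      field_simp
      ring
  have h7 := memLocalIdeal_sum_sub_sum h6
  rw [Finset.mul_sum, memLocalIdeal_iff_of_sub h7, ← Finset.sum_filter, Finset.filter_filter, ← Int.cast_sum,
    memLocalIdeal_intCast_iff hM, ← ZMod.intCast_zmod_eq_zero_iff_dvd] at h5
  rw [show s = Finset.univ.filter fun χ => χ ∈ principalBlock M ↥(GF F G) ∧ (l : ℤ) ^ e ∣ m₀ χ by ext; simp [hs], ← h5,
    Int.cast_sum]
  refine Finset.sum_congr rfl fun χ _ => ?_
  simp only [n]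
  push_cast
  rw [ZMod.natCast_zmod_val]

end Cfsg.Agent.LV.Blk
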